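import Cfsg.Agent.Lib.Presented.Fi24Width2.Calc
import Cfsg.Agent.Lib.Presented.Fi24Width2.Data

/-!
Kernel checks in the table of Fi24 on an element of order 3 fixing no point: it is the product of the element of
width two and two of its fixed transpositions, and also a product of two commuting pairs of transpositions.
-/
set_option autoImplicit false
set_option maxRecDepth 100000
set_option Elab.async false

namespace CfsgLib.M24OrderThree.Cert

open CfsgLib.Presented CfsgLib.Presented.Fi24Width2
open Fi24Cert (rep)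

/-- a word reaching the point 168235 -/
def pf : List Nat := [4, 5, 10, 11, 6, 4, 5, 10, 7, 8, 6, 7, 4, 5, 6, 1, 2, 3, 4, 5, 10, 11, 7, 5, 6, 3, 4, 5, 10, 9, 8, 7, 6, 5, 4, 3, 2, 1]

/-- a word reaching the point 149389 -/
def pa : List Nat := [4, 5, 10, 11, 6, 4, 5, 10, 7, 8, 6, 7, 4, 5, 6, 3, 4, 5, 10, 11, 7, 5, 6, 3, 4, 5, 10, 9, 8, 7, 6, 5, 4, 3, 1, 2, 0, 1]

/-- a word reaching the point 196354 -/
def pb : List Nat := [2, 3, 4, 5, 10, 11, 6, 4, 5, 10, 7, 8, 6, 7, 4, 5, 6, 3, 4, 5, 10, 11, 7, 5, 6, 3, 4, 5, 10, 9, 8, 7, 6, 5, 4, 3, 1, 2, 0, 1]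

/-- a word reaching the point 8781 -/
def pc : List Nat := [10, 5, 6, 4, 5, 10, 7, 8, 6, 7, 5, 6, 4, 5, 10, 9, 8, 7, 6, 5, 4, 3, 2, 0, 1]

/-- a word reaching the point 304447 -/
def pd : List Nat := [7, 4, 5, 6, 3, 4, 5, 10, 11, 7, 6, 4, 5, 10, 6, 7, 8, 5, 6, 7, 4, 5, 6, 3, 4, 5, 10, 11, 8, 7, 5, 6, 2, 3, 4, 5, 10, 9, 8, 7, 6, 5, 4, 3, 2, 1]

/-- the word of the transposition at the end of a word -/
def mem (p : List ℕ) : List ℕ := p ++ [0] ++ p.reverse

/-- the element fixing no point -/
def y0 : List ℕ := mem pf ++ [0] ++ Data.yw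

/-- the same element from two pairs -/
def y1 : List ℕ := mem pa ++ mem pb ++ (mem pc ++ mem pd)

/-- their quotient -/
def eqW : List ℕ := y1 ++ y0.reverse

theorem ok_all : (ok pf && ok pa && ok pb && ok pc && ok pd && ok y0 && ok y1 && ok eqW) = true := by decide +kernel

theorem y0_fix : fixIs y0 [] = true := by decide +kernel

theorem tp_lt : (Nat.blt (img pf 0) rep.N && Data.fixed.contains (img pf 0)) = true := by decide +kernel

theorem f_far : bit fix0 (img pf 0) = false := by decide +kernel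

theorem f_common : Nat.beq (Nat.land (Nat.land fix0 (cmask pf)) (maskOf Data.fixed)) 0 = true := by decide +kernel

theorem pairs_ok : (bit (cmask pa) (img pc 0) && bit (cmask pa) (img pd 0) && bit (cmask pb) (img pc 0) &&
    bit (cmask pb) (img pd 0) && !bit (cmask pa) (img pb 0) && !bit (cmask pc) (img pd 0)) = true := by decide +kernel

theorem eq_slices0 : slicesFixed eqW 0 4 = true := by decide +kernel

theorem eq_slices1 : slicesFixed eqW 4 4 = true := by decide +kernel

theorem eq_slices2 : slicesFixed eqW 8 4 = true := by decide +kernel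

theorem eq_slices3 : slicesFixed eqW 12 4 = true := by decide +kernel

theorem eq_slices4 : slicesFixed eqW 16 4 = true := by decide +kernel

end CfsgLib.M24OrderThree.Cert
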